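import Mathlib

/-!
The universal idempotent of a finite, finitely presented algebra supported on given opens.
-/

universe u

open TensorProduct

namespace GrothLib.QFEnvelope

variable {A C : Type u} [CommRing A] [CommRing C] [Algebra A C]

lemma exists_expansion {n : ℕ} {g : (Fin n → A) →ₗ[A] C} (hg : Function.Surjective g) {M : Type u}
    [CommRing M] [Algebra A M] (z : C ⊗[A] M) :
    ∃ p : Fin n → M, z = ∑ k, g (Pi.single k 1) ⊗ₜ p k := by
  induction z using TensorProduct.induction_on with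
  | zero => exact ⟨0, by simp⟩
  | add x y hx hy =>
    obtain ⟨p, rfl⟩ := hx
    obtain ⟨q, rfl⟩ := hy
    exact ⟨p + q, by simp [tmul_add, Finset.sum_add_distrib]⟩
  | tmul x m =>
    obtain ⟨v, rfl⟩ := hg x
    refine ⟨fun k => v k • m, ?_⟩
    conv_lhs => rw [pi_eq_sum_univ' v]
    simp only [map_sum, map_smul, sum_tmul]
    exact Finset.sum_congr rfl fun k _ => (smul_tmul _ _ _)

/-- Idempotents in `C ⊗ A'` in the ideal of `S` have a versal member over a finitely presented
algebra. -/
theorem exists_versal_idempotent [Module.Finite A C] [Algebra.FinitePresentation A C]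
    (S : Finset C) :
    ∃ (Au : Type u) (_ : CommRing Au) (_ : Algebra A Au) (eu : C ⊗[A] Au),
      Algebra.FinitePresentation A Au ∧ IsIdempotentElem eu ∧
      eu ∈ Ideal.span (Set.range fun s : S => (s.1 ⊗ₜ (1 : Au) : C ⊗[A] Au)) ∧
      ∀ (A' : Type u) [CommRing A'] [Algebra A A'] (e : C ⊗[A] A'), IsIdempotentElem e →
        e ∈ Ideal.span (Set.range fun s : S => (s.1 ⊗ₜ (1 : A') : C ⊗[A] A')) →
        ∃ γ : Au →ₐ[A] A', Algebra.TensorProduct.map (AlgHom.id A C) γ eu = e := by
  classical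
  have : Module.FinitePresentation A C :=
    Module.FinitePresentation.of_finite_of_finitePresentation A C
  obtain ⟨n, g, hg⟩ := Module.Finite.exists_fin' A C
  obtain ⟨T, hT⟩ := Module.FinitePresentation.fg_ker g hg
  let gen : Fin n → C := fun k => g (Pi.single k 1)
  have hgsum : ∀ v : Fin n → A, g v = ∑ k, v k • gen k := by
    intro v
    conv_lhs => rw [pi_eq_sum_univ' v]
    simp [gen, map_sum, map_smul]
  have hgen : Submodule.span A (Set.range gen) = ⊤ := by
    refine eq_top_iff.2 fun x _ => ?_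
    obtain ⟨v, rfl⟩ := hg x
    rw [hgsum]
    exact Submodule.sum_mem _ fun k _ => Submodule.smul_mem _ _ (Submodule.subset_span ⟨k, rfl⟩)
  let P₀ := MvPolynomial (S × Fin n) A
  let e₀ : C ⊗[A] P₀ := ∑ i : S × Fin n, (i.1.1 * gen i.2) ⊗ₜ MvPolynomial.X i
  obtain ⟨p, hp⟩ := exists_expansion hg (e₀ * e₀ - e₀)
  let P := MvPolynomial T P₀
  let J : Ideal P := Ideal.span (Set.range fun k : Fin n =>
    MvPolynomial.C (p k) - ∑ l : T, MvPolynomial.X l * algebraMap A P (l.1 k))
  have : Algebra.FinitePresentation P₀ (P ⧸ J) :=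
    Algebra.FinitePresentation.quotient (Submodule.fg_span (Set.finite_range _))
  have hfp : Algebra.FinitePresentation A (P ⧸ J) := Algebra.FinitePresentation.trans A P₀ (P ⧸ J)
  let θu : P₀ →ₐ[A] P ⧸ J := IsScalarTower.toAlgHom A P₀ (P ⧸ J)
  let eu : C ⊗[A] (P ⧸ J) := Algebra.TensorProduct.map (AlgHom.id A C) θu e₀
  refine ⟨P ⧸ J, inferInstance, inferInstance, eu, hfp, ?_, ?_, ?_⟩
  · rw [IsIdempotentElem, ← sub_eq_zero]
    simp only [eu, ← map_mul, ← map_sub]
    rw [hp, map_sum]
    simp only [Algebra.TensorProduct.map_tmul, AlgHom.coe_id, id_eq]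
    have h1 : ∀ k, θu (p k) = ∑ l : T, (l.1 k) • Ideal.Quotient.mk J (MvPolynomial.X l) := by
      intro k
      have h2 : Ideal.Quotient.mk J (MvPolynomial.C (p k)) = Ideal.Quotient.mk J
          (∑ l : T, MvPolynomial.X l * algebraMap A P (l.1 k)) :=
        Ideal.Quotient.eq.2 (Ideal.subset_span ⟨k, rfl⟩)
      refine h2.trans ?_
      rw [map_sum]
      refine Finset.sum_congr rfl fun l _ => ?_
      show Ideal.Quotient.mk J _ = Ideal.Quotient.mk J ((l.1 k) • MvPolynomial.X l)
      congr 1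
      rw [Algebra.smul_def]
      exact mul_comm _ _
    simp only [h1, tmul_sum]
    rw [Finset.sum_comm]
    refine Finset.sum_eq_zero fun l _ => ?_
    simp only [← smul_tmul, ← sum_tmul]
    rw [← hgsum, show g l.1 = 0 from LinearMap.mem_ker.1 (hT ▸ Submodule.subset_span l.2), zero_tmul]
  · simp only [eu, e₀, map_sum, Algebra.TensorProduct.map_tmul, AlgHom.coe_id, id_eq]
    refine Ideal.sum_mem _ fun i _ => ?_
    rw [← one_mul (θu (MvPolynomial.X i)), ← Algebra.TensorProduct.tmul_mul_tmul]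
    exact Ideal.mul_mem_right _ _ (Ideal.subset_span ⟨i.1, rfl⟩)
  · intro A' _ _ e he hemem
    obtain ⟨coef, hcoef⟩ := Ideal.mem_span_range_iff_exists_fun.1 hemem
    choose q hq using fun s => exists_expansion hg (coef s)
    let θ : P₀ →ₐ[A] A' := MvPolynomial.aeval fun i => q i.1 i.2
    have hθe : Algebra.TensorProduct.map (AlgHom.id A C) θ e₀ = e := by
      simp only [e₀, map_sum, Algebra.TensorProduct.map_tmul, AlgHom.coe_id, id_eq, θ,
        MvPolynomial.aeval_X]
      rw [← hcoef, Fintype.sum_prod_type]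
      refine Finset.sum_congr rfl fun s _ => ?_
      rw [hq s, Finset.sum_mul]
      refine Finset.sum_congr rfl fun k _ => ?_
      rw [Algebra.TensorProduct.tmul_mul_tmul, mul_one, mul_comm]
      exact congrArg (_ ⊗ₜ[A] ·) (MvPolynomial.aeval_X _ _)
    have hz : ∑ k, gen k ⊗ₜ θ (p k) = (0 : C ⊗[A] A') := by
      have h1 := congrArg (Algebra.TensorProduct.map (AlgHom.id A C) θ) hp
      simp only [map_sub, map_mul, hθe, map_sum, Algebra.TensorProduct.map_tmul, AlgHom.coe_id,
        id_eq] at h1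
      rw [← h1, he, sub_self]
    obtain ⟨m, M, y, hy, hM⟩ := TensorProduct.vanishesTrivially_of_sum_tmul_eq_zero A hgen hz
    have hker : ∀ i, ∃ cc : T → A, ∀ k, M k i = ∑ l : T, cc l * l.1 k := by
      intro i
      have h1 : (fun k => M k i) ∈ Submodule.span A (Set.range fun l : T => l.1) := by
        rw [Subtype.range_coe_subtype, Finset.setOfPred_mem, hT, LinearMap.mem_ker, hgsum]
        exact hM i
      obtain ⟨cc, hcc⟩ := (Submodule.mem_span_range_iff_exists_fun _).1 h1
      refine ⟨cc, fun k => ?_⟩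
      rw [← congrFun hcc k, Finset.sum_apply]
      rfl
    choose cc hcc using hker
    let Θ : P →+* A' := MvPolynomial.eval₂Hom θ.toRingHom fun l : T => ∑ i, cc i l • y i
    have hΘC : ∀ w, Θ (MvPolynomial.C w) = θ w := fun w => MvPolynomial.eval₂Hom_C _ _ w
    have hΘX : ∀ l, Θ (MvPolynomial.X l) = ∑ i, cc i l • y i := fun l =>
      MvPolynomial.eval₂Hom_X' _ _ l
    have hΘa : ∀ w, Θ (algebraMap A P w) = algebraMap A A' w := fun w =>
      (hΘC _).trans (θ.commutes w)
    have hJ : ∀ x ∈ J, Θ x = 0 := fun x hx => by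
      refine (Ideal.span_le.2 ?_ : J ≤ RingHom.ker Θ) hx
      rintro - ⟨k, rfl⟩
      rw [SetLike.mem_coe, RingHom.mem_ker, map_sub, map_sum, sub_eq_zero, hΘC,
        show θ (p k) = _ from hy k]
      simp only [map_mul, hΘa, hcc, hΘX, Finset.sum_mul, Finset.sum_smul, Algebra.smul_def,
        map_sum, map_mul]
      rw [Finset.sum_comm]
      exact Finset.sum_congr rfl fun l _ => Finset.sum_congr rfl fun i _ => by ring
    let γ : P ⧸ J →ₐ[A] A' :=
      { Ideal.Quotient.lift J Θ hJ with commutes' := hΘa }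
    refine ⟨γ, ?_⟩
    rw [← hθe]
    simp only [eu, e₀, map_sum, Algebra.TensorProduct.map_tmul, AlgHom.coe_id, id_eq]
    exact Finset.sum_congr rfl fun i _ => congrArg _ (hΘC _)

end GrothLib.QFEnvelope
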