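import Mathlib

/-!
A quasi-finite finitely presented algebra is locally the same as a finite and finitely
presented algebra (Zariski's main theorem plus descent of the relations).
-/

universe u

open CategoryTheory AlgebraicGeometry

namespace GrothLib.QFEnvelope

/-- Open immersion criterion for `Spec.map`. -/
lemma isOpenImmersion_Spec_map {C B : Type u} [CommRing C] [CommRing B] (φ : C →+* B)
    (S : Set C) (hspan : Ideal.span (φ '' S) = ⊤)
    (hbij : ∀ s ∈ S, Function.Bijective (Localization.awayMap φ s)) :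
    IsOpenImmersion (Spec.map (CommRingCat.ofHom φ)) := by
  let V : (Spec (.of C)).Opens :=
    ⨆ s : S, (PrimeSpectrum.basicOpen s.1 : (Spec (.of C)).Opens)
  have hV : (Spec.map (CommRingCat.ofHom φ)) ⁻¹ᵁ V = ⊤ := by
    refine top_le_iff.1 fun P _ => ?_
    show (Spec.map (CommRingCat.ofHom φ)) P ∈
      (⨆ s : S, (PrimeSpectrum.basicOpen s.1 : (Spec (.of C)).Opens))
    refine TopologicalSpace.Opens.mem_iSup.2 ?_
    by_contra h
    push Not at h
    refine P.isPrime.ne_top (top_le_iff.1 (hspan ▸ Ideal.span_le.2 ?_))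
    rintro - ⟨s, hs, rfl⟩
    by_contra h'
    exact h ⟨s, hs⟩ h'
  have hiso : IsIso (Spec.map (CommRingCat.ofHom φ) ∣_ V) := by
    refine (IsZariskiLocalAtTarget.iff_of_iSup_eq_top (P := MorphismProperty.isomorphisms Scheme)
      (fun s : S => V.ι ⁻¹ᵁ (PrimeSpectrum.basicOpen s.1 : (Spec (.of C)).Opens)) ?_).2 fun s => ?_
    · refine top_le_iff.1 fun x _ => ?_
      obtain ⟨s, hs⟩ := TopologicalSpace.Opens.mem_iSup.1 x.2
      exact TopologicalSpace.Opens.mem_iSup.2 ⟨s, hs⟩
    · rw [(MorphismProperty.isomorphisms Scheme).arrow_mk_iso_iff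
        (morphismRestrictRestrict _ _ _),
        (MorphismProperty.isomorphisms Scheme).arrow_mk_iso_iff
        (morphismRestrictEq _ (show V.ι ''ᵁ V.ι ⁻¹ᵁ (PrimeSpectrum.basicOpen s.1) =
          (PrimeSpectrum.basicOpen s.1 : (Spec (.of C)).Opens) from ?_)),
        (MorphismProperty.isomorphisms Scheme).arrow_mk_iso_iff
        (SpecMapRestrictBasicOpenIso (CommRingCat.ofHom φ) s.1)]
      · have : IsIso (CommRingCat.ofHom (Localization.awayMap φ s.1)) :=
          (ConcreteCategory.isIso_iff_bijective _).2 (hbij s.1 s.2)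
        exact inferInstanceAs (IsIso (Spec.map _))
      · rw [Scheme.Hom.image_preimage_eq_opensRange_inf, Scheme.Opens.opensRange_ι]
        exact inf_eq_right.2 (le_iSup (fun s : S =>
          (PrimeSpectrum.basicOpen s.1 : (Spec (.of C)).Opens)) s)
  have e : Spec.map (CommRingCat.ofHom φ) =
      ((Spec (.of B)).topIso.inv ≫ ((Spec (.of B)).isoOfEq hV).inv) ≫
        (Spec.map (CommRingCat.ofHom φ) ∣_ V) ≫ V.ι := by
    rw [morphismRestrict_ι, Category.assoc, ← Category.assoc (((Spec (.of B)).isoOfEq hV).inv),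
      Scheme.isoOfEq_inv_ι]
    simp
  rw [e]
  infer_instance

/-- Zariski's main theorem, with a finitely presented finite algebra. -/
theorem exists_finite_fp (A B : Type u) [CommRing A] [CommRing B] [Algebra A B]
    [Algebra.FinitePresentation A B] [Algebra.QuasiFinite A B] :
    ∃ (C : Type u) (_ : CommRing C) (_ : Algebra A C) (_ : Algebra.FinitePresentation A C)
      (_ : Module.Finite A C) (φ : C →ₐ[A] B) (S : Finset C),
      Ideal.span (φ '' (S : Set C)) = ⊤ ∧
        ∀ s ∈ S, Function.Bijective (Localization.awayMap φ.toRingHom s) := by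
  classical
  choose T hT r hr hbij using fun P : PrimeSpectrum B =>
    Algebra.QuasiFiniteAt.exists_fg_and_exists_notMem_and_awayMap_bijective (R := A) P.asIdeal
  obtain ⟨F, hF⟩ := isCompact_univ.elim_finite_subcover
    (fun P : PrimeSpectrum B => (PrimeSpectrum.basicOpen (r P).1 : Set (PrimeSpectrum B)))
    (fun P => (PrimeSpectrum.basicOpen (r P).1).isOpen)
    (fun P _ => Set.mem_iUnion.2 ⟨P, hr P⟩)
  -- generators
  have hTfin : ∀ P, ∃ G : Finset B, Algebra.adjoin A (G : Set B) = T P ∧ ∀ x ∈ G, IsIntegral A x := by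
    intro P
    have : Module.Finite A (T P) := ⟨(Submodule.fg_top _).2 (hT P)⟩
    obtain ⟨G, hG⟩ := hT P
    refine ⟨G, le_antisymm (Algebra.adjoin_le fun x hx => ?_) (fun x hx => ?_), fun x hx => ?_⟩
    · show x ∈ Subalgebra.toSubmodule (T P)
      exact hG ▸ Submodule.subset_span hx
    · exact Algebra.span_le_adjoin A _ (hG.ge hx)
    · exact (Algebra.IsIntegral.isIntegral (R := A)
        (⟨x, show x ∈ Subalgebra.toSubmodule (T P) from hG ▸ Submodule.subset_span hx⟩ : T P)).map
        (T P).val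
  choose G hG hGint using hTfin
  let G₀ : Finset B := F.biUnion G
  have hint : ∀ x : G₀, IsIntegral A x.1 := fun x => by
    obtain ⟨P, -, hx⟩ := Finset.mem_biUnion.1 x.2
    exact hGint P x.1 hx
  -- the free model
  let rel : G₀ → MvPolynomial G₀ A := fun x =>
    Polynomial.aeval (MvPolynomial.X x) (minpoly A x.1)
  let C₀ := MvPolynomial G₀ A ⧸ Ideal.span (Set.range rel)
  have hC₀fp : Algebra.FinitePresentation A C₀ :=
    Algebra.FinitePresentation.quotient (Submodule.fg_span (Set.finite_range rel))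
  let π : C₀ →ₐ[A] B := Ideal.Quotient.liftₐ _ (MvPolynomial.aeval fun x : G₀ => x.1) (by
    intro a ha
    refine (Ideal.span_le.2 ?_ : Ideal.span (Set.range rel) ≤
      RingHom.ker (MvPolynomial.aeval fun x : G₀ => x.1).toRingHom) ha
    rintro - ⟨x, rfl⟩
    show MvPolynomial.aeval _ (rel x) = 0
    rw [← Polynomial.aeval_algHom_apply, MvPolynomial.aeval_X, minpoly.aeval])
  have hC₀fin : Module.Finite A C₀ := by
    have hgen : ∀ x : G₀, IsIntegral A (Ideal.Quotient.mkₐ A (Ideal.span (Set.range rel))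
        (MvPolynomial.X x)) := fun x => by
      refine ⟨minpoly A x.1, minpoly.monic (hint x), ?_⟩
      rw [← Polynomial.aeval_def, Polynomial.aeval_algHom_apply]
      exact Ideal.Quotient.eq_zero_iff_mem.2 (Ideal.subset_span ⟨x, rfl⟩)
    have : Algebra.IsIntegral A C₀ := by
      refine ⟨fun z => ?_⟩
      obtain ⟨p, rfl⟩ := Ideal.Quotient.mk_surjective z
      induction p using MvPolynomial.induction_on with
      | C a => exact isIntegral_algebraMap
      | add p q hp hq => rw [map_add]; exact hp.add hq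
      | mul_X p i hp => rw [map_mul]; exact hp.mul (hgen i)
    exact Algebra.IsIntegral.finite
  have hrange : ∀ P ∈ F, T P ≤ π.range := by
    intro P hP
    rw [← hG P, Algebra.adjoin_le_iff]
    intro x hx
    exact ⟨Ideal.Quotient.mk _ (MvPolynomial.X ⟨x, Finset.mem_biUnion.2 ⟨P, hP, hx⟩⟩),
      MvPolynomial.aeval_X _ _⟩
  choose σ hσ0 using fun P : F => hrange P.1 P.2 (r P.1).2
  have hσ : ∀ P : F, π (σ P) = (r P.1).1 := hσ0
  have hsurj : ∀ (P : F) (b : B), ∃ (n : ℕ) (c : C₀), π c = (r P.1).1 ^ n * b := by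
    intro P b
    obtain ⟨z, hz⟩ := (hbij P.1).2 (algebraMap B (Localization.Away (r P.1).1) b)
    obtain ⟨z, ⟨-, n, rfl⟩, rfl⟩ := IsLocalization.exists_mk'_eq (Submonoid.powers (r P.1)) z
    rw [Localization.awayMap, IsLocalization.Away.map, IsLocalization.map_mk',
      IsLocalization.mk'_eq_iff_eq_mul] at hz
    replace hz : algebraMap B (Localization.Away (r P.1).1) z.1 =
        algebraMap B (Localization.Away (r P.1).1) b *
          algebraMap B (Localization.Away (r P.1).1) ((r P.1).1 ^ n) := by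
      have h0 : ((T P.1).val.toRingHom (r P.1 ^ n)) = (r P.1).1 ^ n :=
        map_pow (T P.1).val.toRingHom _ n
      rw [← h0]; exact hz
    rw [← map_mul] at hz
    obtain ⟨⟨-, m, rfl⟩, hm⟩ := (IsLocalization.eq_iff_exists (Submonoid.powers (r P.1).1) _).1 hz
    obtain ⟨c, hc⟩ := hrange P.1 P.2 ((r P.1 ^ m) * z).2
    refine ⟨m + n, c, hc.trans ?_⟩
    show (r P.1).1 ^ m * z.1 = _
    rw [pow_add]
    linear_combination hm
  -- the kernels on the charts are finitely generated
  have hker : ∀ P : F, ∃ K : Finset C₀, (∀ k ∈ K, π k = 0) ∧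
      ∀ c, π c = 0 → ∃ n, σ P ^ n * c ∈ Ideal.span (K : Set C₀) := by
    intro P
    have : Algebra.FiniteType A (Localization.Away (σ P)) :=
      Algebra.FiniteType.trans (S := C₀) inferInstance
        (IsLocalization.finiteType_of_monoid_fg (Submonoid.powers (σ P)) _)
    have : Algebra.FinitePresentation B (Localization.Away (π (σ P))) :=
      IsLocalization.Away.finitePresentation (π (σ P))
    have : Algebra.FinitePresentation A (Localization.Away (π (σ P))) :=
      Algebra.FinitePresentation.trans A B _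
    let L : Localization.Away (σ P) →ₐ[A] Localization.Away (π (σ P)) := Localization.awayMapₐ π (σ P)
    have hLsurj : Function.Surjective L := by
      intro z
      obtain ⟨b, ⟨-, n, rfl⟩, rfl⟩ := IsLocalization.exists_mk'_eq (Submonoid.powers (π (σ P))) z
      obtain ⟨m, c, hc⟩ := hsurj P b
      refine ⟨IsLocalization.mk' _ c ⟨σ P ^ (m + n), show _ ∈ Submonoid.powers _ from ⟨m + n, rfl⟩⟩, ?_⟩
      show Localization.awayMap π.toRingHom (σ P) _ = _
      rw [Localization.awayMap, IsLocalization.Away.map, IsLocalization.map_mk']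
      refine IsLocalization.mk'_eq_of_eq ?_
      show π (σ P ^ (m + n)) * b = π (σ P) ^ n * π c
      rw [hc, map_pow, hσ P, pow_add]
      ring
    obtain ⟨K₀, hK₀⟩ := Algebra.FinitePresentation.ker_fG_of_surjective L hLsurj
    have hnum : ∀ k : K₀, ∃ c : C₀, π c = 0 ∧ ∃ u : Localization.Away (σ P),
        k.1 = u * algebraMap C₀ _ c := by
      intro k
      obtain ⟨c, ⟨-, n, rfl⟩, hk⟩ := IsLocalization.exists_mk'_eq (Submonoid.powers (σ P)) k.1
      have hL : L k.1 = 0 := by
        have : k.1 ∈ RingHom.ker L.toRingHom := hK₀ ▸ Submodule.subset_span k.2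
        exact this
      rw [← hk] at hL
      change Localization.awayMap π.toRingHom (σ P) _ = 0 at hL
      rw [Localization.awayMap, IsLocalization.Away.map, IsLocalization.map_mk',
        IsLocalization.mk'_eq_zero_iff] at hL
      obtain ⟨⟨-, j, rfl⟩, hj⟩ := hL
      have hu := IsLocalization.map_units (Localization.Away (σ P))
        (⟨σ P ^ (j + n), j + n, rfl⟩ : Submonoid.powers (σ P))
      refine ⟨σ P ^ j * c, ?_, ↑hu.unit⁻¹, ?_⟩
      · rw [map_mul, map_pow]; exact hj
      · rw [← hu.unit.inv_mul_cancel_left k.1, ← hk]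
        congr 1
        show algebraMap C₀ _ (σ P ^ (j + n)) * _ = _
        rw [pow_add, map_mul, mul_assoc, map_mul]
        congr 1
        rw [mul_comm]
        exact IsLocalization.mk'_spec _ c ⟨σ P ^ n, show _ ∈ Submonoid.powers _ from ⟨n, rfl⟩⟩
    choose num hnum0 u hu using hnum
    refine ⟨Finset.univ.image num, fun k hk => ?_, fun c hc => ?_⟩
    · obtain ⟨i, -, rfl⟩ := Finset.mem_image.1 hk
      exact hnum0 i
    · have hmem : algebraMap C₀ (Localization.Away (σ P)) c ∈
          (Ideal.span ((Finset.univ.image num : Finset C₀) : Set C₀)).map (algebraMap C₀ _) := by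
        have h1 : algebraMap C₀ (Localization.Away (σ P)) c ∈ RingHom.ker L.toRingHom := by
          show Localization.awayMap π.toRingHom (σ P) _ = 0
          rw [Localization.awayMap, IsLocalization.Away.map, IsLocalization.map_eq]
          rw [show π.toRingHom c = 0 from hc, map_zero]
        rw [← hK₀] at h1
        refine (Submodule.span_le.2 fun k hk => ?_) h1
        rw [SetLike.mem_coe, show k = _ from hu ⟨k, hk⟩]
        exact Ideal.mul_mem_left _ _ (Ideal.mem_map_of_mem _
          (Ideal.subset_span (Finset.mem_image.2 ⟨⟨k, hk⟩, Finset.mem_univ _, rfl⟩)))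
      rw [IsLocalization.algebraMap_mem_map_algebraMap_iff (Submonoid.powers (σ P))] at hmem
      obtain ⟨-, ⟨n, rfl⟩, hn⟩ := hmem
      exact ⟨n, hn⟩
  choose K hK0 hKn using hker
  let Kall : Ideal C₀ := Ideal.span ((Finset.univ.biUnion K : Finset C₀) : Set C₀)
  have hKall : ∀ x ∈ Kall, π x = 0 := fun x hx => by
    refine (Ideal.span_le.2 fun k hk => ?_ : Kall ≤ RingHom.ker π.toRingHom) hx
    obtain ⟨P, -, hP⟩ := Finset.mem_biUnion.1 hk
    exact hK0 P k hP
  let φ : (C₀ ⧸ Kall) →ₐ[A] B := Ideal.Quotient.liftₐ Kall π hKall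
  have : Algebra.FinitePresentation A (C₀ ⧸ Kall) :=
    Algebra.FinitePresentation.quotient ⟨_, rfl⟩
  refine ⟨C₀ ⧸ Kall, inferInstance, inferInstance, inferInstance, inferInstance, φ,
    Finset.univ.image fun P => Ideal.Quotient.mk Kall (σ P), ?_, fun s hs => ?_⟩
  · by_contra hne
    obtain ⟨M, hM, hle⟩ := Ideal.exists_le_maximal _ hne
    obtain ⟨P, hP, hrP⟩ := Set.mem_iUnion₂.1 (hF (Set.mem_univ (⟨M, hM.isPrime⟩ : PrimeSpectrum B)))
    refine hrP (hle (Ideal.subset_span ⟨Ideal.Quotient.mk Kall (σ ⟨P, hP⟩), ?_, ?_⟩))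
    · exact Finset.mem_image.2 ⟨⟨P, hP⟩, Finset.mem_univ _, rfl⟩
    · exact hσ ⟨P, hP⟩
  · obtain ⟨P, -, rfl⟩ := Finset.mem_image.1 hs
    refine ⟨(injective_iff_map_eq_zero _).2 fun z hz => ?_, fun z => ?_⟩
    · obtain ⟨c, ⟨-, n, rfl⟩, rfl⟩ :=
        IsLocalization.exists_mk'_eq (Submonoid.powers (Ideal.Quotient.mk Kall (σ P))) z
      obtain ⟨c, rfl⟩ := Ideal.Quotient.mk_surjective c
      rw [Localization.awayMap, IsLocalization.Away.map, IsLocalization.map_mk',
        IsLocalization.mk'_eq_zero_iff] at hz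
      obtain ⟨⟨-, j, rfl⟩, hj⟩ := hz
      have hj' : π (σ P ^ j * c) = 0 := by rw [map_mul, map_pow]; exact hj
      obtain ⟨i, hi⟩ := hKn P _ hj'
      rw [IsLocalization.mk'_eq_zero_iff]
      refine ⟨⟨_, i + j, rfl⟩, ?_⟩
      show Ideal.Quotient.mk Kall (σ P) ^ (i + j) * Ideal.Quotient.mk Kall c = 0
      rw [← map_pow, ← map_mul, Ideal.Quotient.eq_zero_iff_mem, pow_add, mul_assoc]
      refine (Ideal.span_mono ?_ : Ideal.span _ ≤ Kall) hi
      exact Finset.coe_subset.2 (Finset.subset_biUnion_of_mem K (Finset.mem_univ P))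
    · obtain ⟨b, ⟨-, n, rfl⟩, rfl⟩ := IsLocalization.exists_mk'_eq
        (Submonoid.powers (φ.toRingHom (Ideal.Quotient.mk Kall (σ P)))) z
      obtain ⟨m, c, hc⟩ := hsurj P b
      refine ⟨IsLocalization.mk' _ (Ideal.Quotient.mk Kall c)
        ⟨Ideal.Quotient.mk Kall (σ P) ^ (m + n), show _ ∈ Submonoid.powers _ from ⟨m + n, rfl⟩⟩, ?_⟩
      rw [Localization.awayMap, IsLocalization.Away.map, IsLocalization.map_mk']
      refine IsLocalization.mk'_eq_of_eq ?_
      show φ.toRingHom (Ideal.Quotient.mk Kall (σ P) ^ (m + n)) * b = π (σ P) ^ n * π c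
      rw [hc, map_pow, show φ.toRingHom (Ideal.Quotient.mk Kall (σ P)) = π (σ P) from rfl, hσ P,
        pow_add]
      ring

end GrothLib.QFEnvelope
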