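import Mathlib
import Groth.Agent.Lib.QFEnvelope.Basic
import Groth.Agent.Lib.QFEnvelope.Algebra

/-!
A versal family of opens which are finite over the base, for a quasi-finite morphism of affines.
-/

universe u

open CategoryTheory AlgebraicGeometry CategoryTheory.Limits TensorProduct

namespace GrothLib.QFEnvelope

/-- The range of the envelope map. -/
lemma range_specMap {C B : Type u} [CommRing C] [CommRing B] (φ : C →+* B)
    (S : Set C) (hspan : Ideal.span (φ '' S) = ⊤)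
    (hbij : ∀ s ∈ S, Function.Bijective (Localization.awayMap φ s)) (z : PrimeSpectrum C) :
    z ∈ Set.range (PrimeSpectrum.comap φ) ↔ ∃ s ∈ S, s ∉ z.asIdeal := by
  constructor
  · rintro ⟨x, rfl⟩
    by_contra h
    push Not at h
    refine x.isPrime.ne_top (top_le_iff.1 (hspan ▸ Ideal.span_le.2 ?_))
    rintro - ⟨s, hs, rfl⟩
    exact h s hs
  · rintro ⟨s, hs, hsz⟩
    let L : Localization.Away s ≃+* Localization.Away (φ s) := RingEquiv.ofBijective _ (hbij s hs)
    have hdisj : Disjoint (Submonoid.powers s : Set C) z.asIdeal :=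
      Set.disjoint_left.2 fun w ⟨n, hn⟩ hw =>
        hsz (z.isPrime.mem_of_pow_mem n ((show s ^ n = w from hn) ▸ hw))
    have hP : (z.asIdeal.map (algebraMap C (Localization.Away s))).IsPrime :=
      IsLocalization.isPrime_of_isPrime_disjoint (Submonoid.powers s) _ _ z.isPrime hdisj
    refine ⟨⟨((z.asIdeal.map (algebraMap C (Localization.Away s))).comap L.symm.toRingHom).comap
      (algebraMap B (Localization.Away (φ s))), inferInstance⟩, ?_⟩
    refine PrimeSpectrum.ext (Ideal.ext fun x => ?_)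
    show L.symm (algebraMap B (Localization.Away (φ s)) (φ x)) ∈ z.asIdeal.map _ ↔ _
    have : L.symm (algebraMap B (Localization.Away (φ s)) (φ x)) =
        algebraMap C (Localization.Away s) x := by
      rw [RingEquiv.symm_apply_eq]
      show _ = Localization.awayMap φ s (algebraMap C (Localization.Away s) x)
      rw [Localization.awayMap, IsLocalization.Away.map, IsLocalization.map_eq]
    rw [this]
    exact SetLike.ext_iff.1 (IsLocalization.under_map_of_isPrime_disjoint (Submonoid.powers s)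
      (Localization.Away s) z.isPrime hdisj) x

/-- Clopen pieces of an open subscheme of an affine scheme finite over the base are finite. -/
lemma isFinite_preimage_basicOpen {R : Type u} [CommRing R] {W Z : Scheme.{u}}
    (j : W ⟶ Spec (CommRingCat.of R)) [IsOpenImmersion j] (p : Spec (CommRingCat.of R) ⟶ Z)
    [IsFinite p] {e : R} (he : IsIdempotentElem e)
    (hsub : ∀ z : PrimeSpectrum R, e ∉ z.asIdeal → z ∈ Set.range j) :
    IsFinite ((j ⁻¹ᵁ PrimeSpectrum.basicOpen e).ι ≫ j ≫ p) := by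
  have : IsClosedImmersion ((j ⁻¹ᵁ PrimeSpectrum.basicOpen e).ι ≫ j) := by
    refine IsClosedImmersion.of_isPreimmersion _ ?_
    have h1 : Set.range ((j ⁻¹ᵁ PrimeSpectrum.basicOpen e).ι ≫ j) =
        (PrimeSpectrum.basicOpen e : Set (PrimeSpectrum R)) := by
      ext z
      constructor
      · rintro ⟨w, rfl⟩; exact w.2
      · intro hz
        obtain ⟨w, rfl⟩ := hsub z hz
        exact ⟨⟨w, hz⟩, rfl⟩
    rw [h1]
    exact ((PrimeSpectrum.isClopen_iff (R := R)).2 ⟨e, he, rfl⟩).1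
  rw [← Category.assoc]
  infer_instance

/-- An open of an affine scheme which is finite over a separated base is cut out by an idempotent. -/
lemma exists_idempotent_of_isFinite {R : Type u} [CommRing R] {W Z : Scheme.{u}}
    (j : W ⟶ Spec (CommRingCat.of R)) [IsOpenImmersion j] (p : Spec (CommRingCat.of R) ⟶ Z)
    [IsSeparated p] (U : W.Opens) [IsFinite ((U.ι ≫ j) ≫ p)] :
    ∃ e : R, IsIdempotentElem e ∧ ∀ z : PrimeSpectrum R, e ∉ z.asIdeal ↔ z ∈ j '' (U : Set W) := by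
  have hfinj : IsFinite (U.ι ≫ j) :=
    MorphismProperty.of_postcomp (W := @IsFinite) (W' := @IsSeparated) _ p inferInstance inferInstance
  have hclopen : IsClopen (X := PrimeSpectrum R) (j '' (U : Set W)) := by
    refine ⟨?_, j.isOpenEmbedding.isOpenMap _ U.2⟩
    have h1 : j '' (U : Set W) = Set.range (U.ι ≫ j) := by
      rw [Scheme.Hom.comp_base, TopCat.coe_comp, Set.range_comp, Scheme.Opens.range_ι]
    exact (congrArg (IsClosed (X := PrimeSpectrum R)) h1).mpr (U.ι ≫ j).isClosedMap.isClosed_range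
  obtain ⟨e, he, hee⟩ := (PrimeSpectrum.isClopen_iff (R := R)).1 hclopen
  exact ⟨e, he, fun z => (Set.ext_iff.1 hee z).symm⟩

lemma mem_span_of_forall_prime {R : Type u} [CommRing R] {e : R} (he : IsIdempotentElem e)
    (s : Set R) (h : ∀ z : PrimeSpectrum R, s ⊆ z.asIdeal → e ∈ z.asIdeal) : e ∈ Ideal.span s := by
  have hrad : e ∈ (Ideal.span s).radical := by
    rw [← PrimeSpectrum.vanishingIdeal_zeroLocus_eq_radical, PrimeSpectrum.mem_vanishingIdeal]
    exact fun z hz => h z fun x hx => hz (Ideal.subset_span hx)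
  obtain ⟨k, hk⟩ := hrad
  cases k with
  | zero => rw [pow_zero] at hk; exact (Ideal.eq_top_iff_one _).2 hk ▸ Submodule.mem_top
  | succ k => rwa [he.pow_succ_eq] at hk

variable {X Y : Scheme.{u}} [IsAffine Y] {C : Type u} [CommRing C] [Algebra Γ(Y, ⊤) C]

/-- The finite scheme over `Y`. -/
noncomputable def bar (C : Type u) [CommRing C] [Algebra Γ(Y, ⊤) C] :
    Spec (CommRingCat.of C) ⟶ Y :=
  Spec.map (CommRingCat.ofHom (algebraMap Γ(Y, ⊤) C)) ≫ Y.isoSpec.inv

/-- The base change of `bar C` to an affine scheme. -/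
lemma isPullback_bar {Y' : Scheme.{u}} [IsAffine Y'] (b : Y' ⟶ Y) :
    letI := b.appTop.hom.toAlgebra
    IsPullback
      (Spec.map (CommRingCat.ofHom
        (Algebra.TensorProduct.includeLeftRingHom : C →+* C ⊗[Γ(Y, ⊤)] Γ(Y', ⊤))))
      (Spec.map (CommRingCat.ofHom
        (Algebra.TensorProduct.includeRight : Γ(Y', ⊤) →ₐ[Γ(Y, ⊤)] C ⊗[Γ(Y, ⊤)] Γ(Y', ⊤)).toRingHom) ≫
        Y'.isoSpec.inv)
      (bar C) b := by
  letI := b.appTop.hom.toAlgebra
  have h := isPullback_SpecMap_of_isPushout _ _ _ _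
    (CommRingCat.isPushout_tensorProduct Γ(Y, ⊤) C Γ(Y', ⊤))
  refine IsPullback.of_iso h (Iso.refl _) (Iso.refl _) Y'.isoSpec.symm Y.isoSpec.symm
    (by simp) (by simp) (by simp [bar]) ?_
  show Spec.map b.appTop ≫ Y.isoSpec.inv = Y'.isoSpec.inv ≫ b
  exact Scheme.isoSpec_inv_naturality b

/-- The chart of a fibre product in the base change of the envelope. -/
lemma exists_chart (f : X ⟶ Y) (ι : X ⟶ Spec (CommRingCat.of C)) [IsOpenImmersion ι]
    (hιp : ι ≫ bar C = f) {Y' : Scheme.{u}} [IsAffine Y'] (b : Y' ⟶ Y) :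
    letI := b.appTop.hom.toAlgebra
    ∃ j : pullback f b ⟶ Spec (CommRingCat.of (C ⊗[Γ(Y, ⊤)] Γ(Y', ⊤))),
      IsOpenImmersion j ∧
      j ≫ Spec.map (CommRingCat.ofHom
        (Algebra.TensorProduct.includeLeftRingHom : C →+* C ⊗[Γ(Y, ⊤)] Γ(Y', ⊤))) =
          pullback.fst f b ≫ ι ∧
      j ≫ Spec.map (CommRingCat.ofHom
        (Algebra.TensorProduct.includeRight : Γ(Y', ⊤) →ₐ[Γ(Y, ⊤)] C ⊗[Γ(Y, ⊤)] Γ(Y', ⊤)).toRingHom) ≫
        Y'.isoSpec.inv = pullback.snd f b ∧
      ∀ z, Spec.map (CommRingCat.ofHom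
          (Algebra.TensorProduct.includeLeftRingHom : C →+* C ⊗[Γ(Y, ⊤)] Γ(Y', ⊤))) z ∈ Set.range ι →
        z ∈ Set.range j := by
  letI := b.appTop.hom.toAlgebra
  have hpb := isPullback_bar (C := C) b
  have w : (pullback.fst f b ≫ ι) ≫ bar C = pullback.snd f b ≫ b := by
    rw [Category.assoc, hιp, pullback.condition]
  have hsq : IsPullback (pullback.fst f b) (hpb.lift _ _ w) ι (Spec.map (CommRingCat.ofHom
      (Algebra.TensorProduct.includeLeftRingHom : C →+* C ⊗[Γ(Y, ⊤)] Γ(Y', ⊤)))) := by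
    refine IsPullback.of_bot ?_ (hpb.lift_fst _ _ _).symm hpb
    rw [hιp, hpb.lift_snd]
    exact IsPullback.of_hasPullback f b
  refine ⟨hpb.lift _ _ w, MorphismProperty.of_isPullback hsq inferInstance, hpb.lift_fst _ _ _,
    hpb.lift_snd _ _ _, ?_⟩
  rintro z ⟨x, hx⟩
  obtain ⟨v, -, hv⟩ := Scheme.exists_preimage_of_isPullback hsq x z hx
  exact ⟨v, hv⟩

/-- Morphisms of affine schemes from ring maps. -/
lemma exists_hom_appTop {U V : Scheme.{u}} [IsAffine U] [IsAffine V] (γ : Γ(V, ⊤) ⟶ Γ(U, ⊤)) :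
    ∃ c : U ⟶ V, c.appTop = γ := by
  refine ⟨U.isoSpec.hom ≫ Spec.map γ ≫ V.isoSpec.inv, Spec.map_injective ?_⟩
  rw [← cancel_mono V.isoSpec.inv, Scheme.isoSpec_inv_naturality]
  simp

/-- The versal family in the presence of a finite envelope. -/
theorem exists_versal [IsAffine X] (f : X ⟶ Y) (φ : C →+* Γ(X, ⊤))
    (hφ : φ.comp (algebraMap Γ(Y, ⊤) C) = f.appTop.hom) [Module.Finite Γ(Y, ⊤) C]
    [Algebra.FinitePresentation Γ(Y, ⊤) C] (S : Finset C) (hspan : Ideal.span (φ '' (S : Set C)) = ⊤)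
    (hbij : ∀ s ∈ S, Function.Bijective (Localization.awayMap φ s)) :
    ∃ (Yu : Scheme.{u}) (a : Yu ⟶ Y) (Uu : (pullback f a).Opens),
      LocallyOfFinitePresentation a ∧ QuasiCompact a ∧ QuasiSeparated a ∧
      IsFinite (Uu.ι ≫ pullback.snd f a) ∧
      ∀ (Y' : Scheme.{u}) (b : Y' ⟶ Y) (U' : (pullback f b).Opens), IsAffine Y' →
        IsFinite (U'.ι ≫ pullback.snd f b) →
        ∃ (c : Y' ⟶ Yu) (hc : c ≫ a = b),
          (pullback.map f b f a (𝟙 X) c (𝟙 Y) ((Category.comp_id f).trans (Category.id_comp f).symm)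
            ((Category.comp_id b).trans hc.symm)) ⁻¹ᵁ Uu = U' := by
  let ι : X ⟶ Spec (CommRingCat.of C) := X.isoSpec.hom ≫ Spec.map (CommRingCat.ofHom φ)
  have : IsOpenImmersion ι := by
    have := isOpenImmersion_Spec_map φ (S : Set C) hspan hbij
    show IsOpenImmersion (_ ≫ _)
    infer_instance
  have hιp : ι ≫ bar C = f := by
    simp only [ι, bar, Category.assoc]
    rw [← Spec.map_comp_assoc, ← CommRingCat.ofHom_comp, hφ]
    show X.isoSpec.hom ≫ Spec.map f.appTop ≫ Y.isoSpec.inv = f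
    rw [Scheme.isoSpec_inv_naturality]
    simp
  have hιrange : ∀ z : PrimeSpectrum C, z ∈ Set.range ι ↔ ∃ s ∈ S, s ∉ z.asIdeal := by
    intro z
    refine Iff.trans ?_ (range_specMap φ (S : Set C) hspan hbij z)
    constructor
    · rintro ⟨x, rfl⟩; exact ⟨X.isoSpec.hom x, rfl⟩
    · rintro ⟨x, rfl⟩
      refine ⟨X.isoSpec.inv x, ?_⟩
      show Spec.map (CommRingCat.ofHom φ) (X.isoSpec.hom (X.isoSpec.inv x)) = _
      rw [← Scheme.Hom.comp_apply X.isoSpec.inv, Iso.inv_hom_id]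
      rfl
  have : IsFinite (bar (Y := Y) C) := by
    have : IsFinite (Spec.map (CommRingCat.ofHom (algebraMap Γ(Y, ⊤) C))) :=
      (IsFinite.SpecMap_iff _).2 (RingHom.finite_algebraMap.2 inferInstance)
    show IsFinite (_ ≫ _)
    infer_instance
  obtain ⟨Au, _, _, eu₀, hAfp, heu₀, hemem₀, huniv⟩ :=
    exists_versal_idempotent (A := Γ(Y, ⊤)) S
  obtain ⟨a, ha⟩ := exists_hom_appTop (U := Spec (CommRingCat.of Au)) (V := Y)
    (CommRingCat.ofHom (algebraMap Γ(Y, ⊤) Au) ≫ (Scheme.ΓSpecIso (CommRingCat.of Au)).inv)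
  have halfp : LocallyOfFinitePresentation a := by
    refine (HasRingHomProperty.iff_of_isAffine (P := @LocallyOfFinitePresentation)).2 ?_
    rw [ha, CommRingCat.hom_comp]
    exact RingHom.FinitePresentation.comp
      (RingHom.FinitePresentation.of_bijective
        (ConcreteCategory.bijective_of_isIso (Scheme.ΓSpecIso (CommRingCat.of Au)).inv))
      (RingHom.finitePresentation_algebraMap.2 hAfp)
  letI algU : Algebra Γ(Y, ⊤) Γ(Spec (CommRingCat.of Au), ⊤) := a.appTop.hom.toAlgebra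
  have hcomm : ∀ y, (Scheme.ΓSpecIso (CommRingCat.of Au)).inv (algebraMap Γ(Y, ⊤) Au y) =
      algebraMap Γ(Y, ⊤) Γ(Spec (CommRingCat.of Au), ⊤) y := fun y => by
    show _ = a.appTop y
    rw [ha]; rfl
  let κ : Au →ₐ[Γ(Y, ⊤)] Γ(Spec (CommRingCat.of Au), ⊤) :=
    { (Scheme.ΓSpecIso (CommRingCat.of Au)).inv.hom with commutes' := hcomm }
  have hκ : Function.Bijective κ :=
    ConcreteCategory.bijective_of_isIso (Scheme.ΓSpecIso (CommRingCat.of Au)).inv
  let eu := Algebra.TensorProduct.map (AlgHom.id Γ(Y, ⊤) C) κ eu₀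
  have heu : IsIdempotentElem eu := heu₀.map _
  obtain ⟨ju, _, hju₁, hju₂, hjurange⟩ := exists_chart f ι hιp a
  have := MorphismProperty.of_isPullback (P := @IsFinite) (isPullback_bar (C := C) a) ‹_›
  refine ⟨_, a, ju ⁻¹ᵁ PrimeSpectrum.basicOpen eu, halfp, inferInstance, inferInstance, ?_, ?_⟩
  · rw [← hju₂]
    refine isFinite_preimage_basicOpen ju _ heu fun z hz => hjurange z ((hιrange _).2 ?_)
    by_contra h
    push Not at h
    refine hz ((Ideal.map_le_iff_le_comap.2 ?_) (Ideal.mem_map_of_mem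
      (Algebra.TensorProduct.map (AlgHom.id Γ(Y, ⊤) C) κ) hemem₀))
    refine Ideal.span_le.2 ?_
    rintro - ⟨s, rfl⟩
    show Algebra.TensorProduct.map (AlgHom.id Γ(Y, ⊤) C) κ (s.1 ⊗ₜ 1) ∈ z.asIdeal
    rw [Algebra.TensorProduct.map_tmul, map_one]
    exact h s.1 s.2
  · intro Y' b U' _ hU'
    letI := b.appTop.hom.toAlgebra
    obtain ⟨j, _, hj₁, hj₂, hjrange⟩ := exists_chart f ι hιp b
    have := MorphismProperty.of_isPullback (P := @IsFinite) (isPullback_bar (C := C) b) ‹_›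
    have : IsFinite ((U'.ι ≫ j) ≫ Spec.map (CommRingCat.ofHom
        (Algebra.TensorProduct.includeRight : Γ(Y', ⊤) →ₐ[Γ(Y, ⊤)] C ⊗[Γ(Y, ⊤)] Γ(Y', ⊤)).toRingHom) ≫
        Y'.isoSpec.inv) := by rw [Category.assoc, hj₂]; exact hU'
    obtain ⟨e, he, hee⟩ := exists_idempotent_of_isFinite j (Spec.map (CommRingCat.ofHom
        (Algebra.TensorProduct.includeRight : Γ(Y', ⊤) →ₐ[Γ(Y, ⊤)] C ⊗[Γ(Y, ⊤)] Γ(Y', ⊤)).toRingHom) ≫
        Y'.isoSpec.inv) U'
    have hemem : e ∈ Ideal.span (Set.range fun s : S =>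
        (s.1 ⊗ₜ (1 : Γ(Y', ⊤)) : C ⊗[Γ(Y, ⊤)] Γ(Y', ⊤))) := by
      refine mem_span_of_forall_prime he _ fun z hz => ?_
      by_contra hez
      obtain ⟨w, -, rfl⟩ := (hee z).1 hez
      have h1 := (hιrange (ι (pullback.fst f b w))).1 ⟨_, rfl⟩
      rw [← Scheme.Hom.comp_apply, ← hj₁] at h1
      obtain ⟨s, hs, hsz⟩ := h1
      exact hsz (hz ⟨⟨s, hs⟩, rfl⟩)
    obtain ⟨γ, hγ⟩ := huniv Γ(Y', ⊤) e he hemem
    let γ' : Γ(Spec (CommRingCat.of Au), ⊤) →ₐ[Γ(Y, ⊤)] Γ(Y', ⊤) :=
      γ.comp (AlgEquiv.ofBijective κ hκ).symm.toAlgHom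
    have hγκ : γ'.comp κ = γ :=
      AlgHom.ext fun x => congrArg γ ((AlgEquiv.ofBijective κ hκ).symm_apply_apply x)
    obtain ⟨c, hc'⟩ := exists_hom_appTop (U := Y') (V := Spec (CommRingCat.of Au))
      (CommRingCat.ofHom γ'.toRingHom)
    have hc : c ≫ a = b := ext_of_isAffine (by
      rw [Scheme.Hom.comp_appTop, hc']
      exact CommRingCat.hom_ext (RingHom.ext fun y => γ'.commutes y))
    refine ⟨c, hc, ?_⟩
    let Γc := Algebra.TensorProduct.map (AlgHom.id Γ(Y, ⊤) C) γ'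
    have hΓe : Γc eu = e := by
      rw [← hγ, ← hγκ, ← AlgHom.comp_apply, ← Algebra.TensorProduct.map_comp, AlgHom.comp_id]
    have hcomp : pullback.map f b f a (𝟙 X) c (𝟙 Y) ((Category.comp_id f).trans (Category.id_comp f).symm)
        ((Category.comp_id b).trans hc.symm) ≫ ju = j ≫ Spec.map (CommRingCat.ofHom Γc.toRingHom) := by
      apply (isPullback_bar (C := C) a).hom_ext
      · rw [Category.assoc, hju₁, ← Category.assoc, pullback.lift_fst, Category.comp_id,
          Category.assoc, ← Spec.map_comp, ← hj₁, ← CommRingCat.ofHom_comp]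
        congr 3
        exact RingHom.ext fun w => by simp [Γc]
      · rw [Category.assoc, hju₂, pullback.lift_snd, ← hj₂]
        simp only [Category.assoc]
        rw [← Scheme.isoSpec_inv_naturality c, hc', ← Spec.map_comp_assoc, ← Spec.map_comp_assoc,
          ← CommRingCat.ofHom_comp]
        congr 3
    rw [← Scheme.Hom.comp_preimage, hcomp]
    refine TopologicalSpace.Opens.ext (Set.ext fun w => ?_)
    show Γc eu ∉ (j w).asIdeal ↔ w ∈ U'
    rw [hΓe, hee]
    exact j.isOpenEmbedding.injective.mem_set_image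

end GrothLib.QFEnvelope
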